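import Cfsg.Agent.SB.Split
import Cfsg.Agent.DS.Cl.ModL

/-!
# S5765, classical groups, non-parabolic case: interface (helper68)

Frame of `DS/Cl`: `F : FR A`, `T = F.S`, `S ≤ F.Aut` solvable with `MaxInv`, `NPar` (`Ctx F S`).
Linear groups: `A = LR (Fin n) K`; unitary, symplectic, orthogonal groups: `A = h.EB`, `h : HF K V`.
See `notes/SB/cl.md`.
-/

set_option autoImplicit false

namespace Cfsg.Agent.SB.Cl

open Cfsg Cfsg.Agent.DS.Cl Cfsg.Agent.DS.Cl.Fwd Module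

section defs

variable {A : Type} [Ring A] [StarRing A]

/-- the standing hypotheses -/
structure Ctx (F : FR A) (S : Subgroup (RingAut A)) : Prop where
  ss : SS A
  span : F.Span
  simple : IsSimpleGroup F.S
  noncomm : ¬ IsMulCommutative F.S
  big : 360 < Nat.card F.S
  cent : ∀ γ ∈ F.Aut, (∀ s ∈ F.S, γ * s = s * γ) → γ = 1
  le : S ≤ F.Aut
  solv : Group.IsSolvable S
  max : MaxInv F.S S
  npar : ∀ p : ℕ, p.Prime → (p : A) = 0 → NPar p F.S S

/-- the members of `D` are conjugate under the isometry group -/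
def Isom (F : FR A) (D : Finset A) : Prop := ∀ e ∈ D, ∀ e' ∈ D, ∃ u ∈ F.Iso, cj A u e = e'

/-- `Z` is a commutative star-closed subring containing the centre -/
def ComSub (Z : Subring A) : Prop :=
  Subring.center A ≤ Z ∧ (∀ x ∈ Z, star x ∈ Z) ∧ ∀ x ∈ Z, ∀ y ∈ Z, x * y = y * x

/-- `Y ≤ S ⊓ T` is an abelian normal subgroup of `S` of exponent `r` whose lifts span `A` (symplectic type) -/
def ExtD (F : FR A) (S Y : Subgroup (RingAut A)) (r : ℕ) : Prop :=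
  Y ≤ S ⊓ F.S ∧ (∀ x ∈ Y, ∀ y ∈ Y, x * y = y * x) ∧ (∀ x ∈ Y, x ^ r = 1) ∧ (∀ s ∈ S, ∀ y ∈ Y, s * y * s⁻¹ ∈ Y) ∧
  Subring.closure ((Subring.center A : Set A) ∪ {a | ∃ u ∈ F.Iso, cj A u ∈ Y ∧ (u : A) = a}) = ⊤

end defs

section kinds

variable {K V : Type} [Field K] [Finite K] [AddCommGroup V] [Module K V] [Finite V]

/-- unitary -/
def IsU (h : HF K V) : Prop := h.ε = 1 ∧ ∃ c, h.τ c ≠ c

/-- symplectic -/
def IsSp (h : HF K V) (F : FR h.EB) : Prop := (∀ c, h.τ c = c) ∧ (∀ v, h.b v v = 0) ∧ F.L = Lmax h.EB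

/-- orthogonal -/
def IsO (h : HF K V) (F : FR h.EB) (Q : QuadraticForm K V) : Prop :=
  (∀ c, h.τ c = c) ∧ (∀ u v, h.b u v = QuadraticMap.polar Q u v) ∧ F.L = Lmin h.EB ∧ ∀ v, h.b v (h.ap F.l v) = Q v

/-- the rank of an element -/
noncomputable def rk (h : HF K V) (a : h.EB) : ℕ := finrank K (LinearMap.range (h.ap a))

/-- the four-dimensional blocks are of plus type -/
def PlusB (h : HF K V) (Q : QuadraticForm K V) (D : Finset h.EB) : Prop :=
  ∀ e ∈ D, rk h e = 4 → ∃ W : Submodule K V, W ≤ LinearMap.range (h.ap e) ∧ finrank K W = 2 ∧ ∀ w ∈ W, Q w = 0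

end kinds

/-- the rank of an element of the ring of pairs -/
noncomputable def rkL {n : ℕ} {K : Type} [Field K] (a : LR (Fin n) K) : ℕ := Matrix.rank a.1

/-- two blocks of ranks `a`, `b` -/
def Two {A : Type} (r : A → ℕ) (D : Finset A) (a b : ℕ) : Prop :=
  D.card = 2 ∧ ∃ e ∈ D, ∃ e' ∈ D, e ≠ e' ∧ r e = a ∧ r e' = b

/-- three or four blocks of rank `d` -/
def Many {A : Type} (r : A → ℕ) (D : Finset A) (d : ℕ) : Prop := (D.card = 3 ∨ D.card = 4) ∧ ∀ e ∈ D, r e = d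

/-! ### The main statements -/

def MainL : Prop := ∀ (K : Type) [Field K] [Finite K] (n : ℕ) (F : FR (LR (Fin n) K))
  (S : Subgroup (RingAut (LR (Fin n) K))), 3 ≤ n → (n ≤ 4 → 3 ≤ Nat.card K) → Ctx F S → Good F.S S

def MainU : Prop := ∀ (K V : Type) [Field K] [Finite K] [AddCommGroup V] [Module K V] [Finite V] (h : HF K V)
  (F : FR h.EB) (S : Subgroup (RingAut h.EB)), IsU h → 4 ≤ finrank K V → (finrank K V = 4 → Nat.card K ≠ 4) →
  Ctx F S → Good F.S S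

def MainSp : Prop := ∀ (K V : Type) [Field K] [Finite K] [AddCommGroup V] [Module K V] [Finite V] (h : HF K V)
  (F : FR h.EB) (S : Subgroup (RingAut h.EB)), IsSp h F → 4 ≤ finrank K V → (finrank K V = 4 → 4 ≤ Nat.card K) →
  Ctx F S → Good F.S S

def MainO : Prop := ∀ (K V : Type) [Field K] [Finite K] [AddCommGroup V] [Module K V] [Finite V] (h : HF K V)
  (F : FR h.EB) (Q : QuadraticForm K V) (S : Subgroup (RingAut h.EB)), IsO h F Q → 7 ≤ finrank K V →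
  Ctx F S → Good F.S S

/-! ### The rows -/

/-- linear groups, all frames: `GL₁(q) ≀ S₃, S₄`; `GL₂(q) ≀ S₃, S₄` (`q ≤ 3`); `GL₁(3) × GL₂(3)`, `GL₂(3) ≀ S₂` -/
def RowLFr : Prop := ∀ (K : Type) [Field K] [Finite K] (n : ℕ) (F : FR (LR (Fin n) K))
  (S : Subgroup (RingAut (LR (Fin n) K))) (D : Finset (LR (Fin n) K)), 3 ≤ n → (n ≤ 4 → 3 ≤ Nat.card K) → Ctx F S →
  Fr D → Inv S D → Many rkL D 1 ∨ (Many rkL D 2 ∧ Nat.card K ≤ 3) ∨
    (Nat.card K = 3 ∧ (Two rkL D 1 2 ∨ Two rkL D 2 2)) → Good F.S S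

/-- linear groups, Singer cycles -/
def RowLSing : Prop := ∀ (K : Type) [Field K] [Finite K] (n : ℕ) (F : FR (LR (Fin n) K))
  (S : Subgroup (RingAut (LR (Fin n) K))) (Z : Subring (LR (Fin n) K)), 3 ≤ n → n.Prime → (n ≤ 4 → 3 ≤ Nat.card K) →
  Ctx F S → ComSub Z → Inv S Z → (∀ x ∈ Z, x.1 ≠ 0 → IsUnit x.1) → Nat.card Z = Nat.card K ^ (2 * n) → Good F.S S

/-- linear groups, `3² : SL₂(3)` in `L₃(q)` and `S₄ × S₄` in `L₄(3)` -/
def RowLExt : Prop := ∀ (K : Type) [Field K] [Finite K] (n : ℕ) (F : FR (LR (Fin n) K))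
  (S Y : Subgroup (RingAut (LR (Fin n) K))), Ctx F S →
  (n = 3 ∧ 4 ≤ Nat.card K ∧ ExtD F S Y 3 ∧ Nat.card Y = 9) ∨ (n = 4 ∧ Nat.card K = 3 ∧ ExtD F S Y 2 ∧ Nat.card Y = 16) →
  Good F.S S

/-- unitary groups, `GU₁(q) ≀ S₄` -/
def RowU1 : Prop := ∀ (K V : Type) [Field K] [Finite K] [AddCommGroup V] [Module K V] [Finite V] (h : HF K V)
  (F : FR h.EB) (S : Subgroup (RingAut h.EB)) (D : Finset h.EB), IsU h → finrank K V = 4 → Nat.card K ≠ 4 →
  Ctx F S → Fr D → Inv S D → Many (rk h) D 1 → Good F.S S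

/-- unitary groups, blocks `GU₂(2)`, `GU₂(3)`, `GU₃(2)` -/
def RowU2 : Prop := ∀ (K V : Type) [Field K] [Finite K] [AddCommGroup V] [Module K V] [Finite V] (h : HF K V)
  (F : FR h.EB) (S : Subgroup (RingAut h.EB)) (D : Finset h.EB), IsU h → Ctx F S → Fr D → Inv S D →
  (Nat.card K = 4 ∧ (Two (rk h) D 2 3 ∨ Two (rk h) D 3 3 ∨ Many (rk h) D 2 ∨ Many (rk h) D 3)) ∨
    (Nat.card K = 9 ∧ (Two (rk h) D 2 2 ∨ Many (rk h) D 2)) → Good F.S S

/-- unitary groups, Singer cycles -/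
def RowUSing : Prop := ∀ (K V : Type) [Field K] [Finite K] [AddCommGroup V] [Module K V] [Finite V] (h : HF K V)
  (F : FR h.EB) (S : Subgroup (RingAut h.EB)) (Z : Subring h.EB), IsU h → 5 ≤ finrank K V → (finrank K V).Prime →
  Ctx F S → ComSub Z → Inv S Z → (∀ x ∈ Z, x ≠ 0 → IsUnit x) → Nat.card Z = Nat.card K ^ finrank K V → Good F.S S

/-- symplectic groups, `Sp₂(q) ≀ S₃, S₄`, `q ≤ 3` -/
def RowSp : Prop := ∀ (K V : Type) [Field K] [Finite K] [AddCommGroup V] [Module K V] [Finite V] (h : HF K V)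
  (F : FR h.EB) (S : Subgroup (RingAut h.EB)) (D : Finset h.EB), IsSp h F → Ctx F S → Fr D → Inv S D →
  Nat.card K ≤ 3 → Many (rk h) D 2 → Good F.S S

/-- orthogonal groups, `O₂^ε(q) ≀ S₄` -/
def RowO2 : Prop := ∀ (K V : Type) [Field K] [Finite K] [AddCommGroup V] [Module K V] [Finite V] (h : HF K V)
  (F : FR h.EB) (Q : QuadraticForm K V) (S : Subgroup (RingAut h.EB)) (D : Finset h.EB), IsO h F Q →
  finrank K V = 8 → Ctx F S → Fr D → Inv S D → Isom F D → Many (rk h) D 2 → Good F.S S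

/-- orthogonal groups, blocks `O₃(3)`, `O₄⁺(2)`, `O₄⁺(3)` -/
def RowO3 : Prop := ∀ (K V : Type) [Field K] [Finite K] [AddCommGroup V] [Module K V] [Finite V] (h : HF K V)
  (F : FR h.EB) (Q : QuadraticForm K V) (S : Subgroup (RingAut h.EB)) (D : Finset h.EB), IsO h F Q →
  Ctx F S → Fr D → Inv S D → PlusB h Q D →
  (Nat.card K = 3 ∧ (Two (rk h) D 3 4 ∨ (Isom F D ∧ Many (rk h) D 3))) ∨
    (Nat.card K ≤ 3 ∧ (Two (rk h) D 4 4 ∨ Many (rk h) D 4)) → Good F.S S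

/-- all rows -/
structure Rows : Prop where
  lfr : RowLFr
  lsing : RowLSing
  lext : RowLExt
  u1 : RowU1
  u2 : RowU2
  usi : RowUSing
  sp : RowSp
  o2 : RowO2
  o3 : RowO3

/-- the classification -/
def BoxClass : Prop := Rows → MainL ∧ MainU ∧ MainSp ∧ MainO

/-- `Sp₄(2^a)`, `a ≥ 2`, groups `S` containing graph automorphisms -/
def BoxB2 : Prop := ∀ (F : Type) [Field F] [Fintype F] [CharP F 2], 4 ≤ Fintype.card F →
  ∀ S : Subgroup (MulAut (PSp 2 F)), Group.IsSolvable S → MaxInv (H786.FC.InnG _) S → NPar 2 (H786.FC.InnG _) S →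
    ¬ S ≤ (Cfsg.Agent.ClassicalGeometry.SympAutSemi.Psi 2 F).range → Good (H786.FC.InnG _) S

/-- `PΩ₈⁺(q)`, groups `S` of order divisible by three modulo the inner-diagonal and field automorphisms, i.e. `S`
is not conjugate to a group of semilinear similitudes -/
def BoxD4 : Prop := ∀ (p : ℕ) (F : Type) [Field F] [Fintype F] [CharP F p], MainO → RowN p (POmega F (quadFormPlus 4 F))

/-- the bridge -/
def BoxBridge : Prop := MainL → MainU → MainSp → MainO → BoxB2 → BoxD4 → Box (fun K _ => IsAlternating K) → BoxPar →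
  BoxN (fun p K _ => IsPSLChar p K) ∧ BoxN (fun p K _ => IsPSUChar p K) ∧ BoxN (fun p K _ => IsPSpChar p K) ∧
  BoxN (fun p K _ => IsPOmegaOddChar p K) ∧ BoxN (fun p K _ => IsPOmegaPlusChar p K) ∧
  BoxN (fun p K _ => IsPOmegaMinusChar p K)

end Cfsg.Agent.SB.Cl
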