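import Cfsg.Agent.SB.Cl.Basic

/-!
# S5765, classical groups: the centraliser of `F.S` in `F.Aut` is trivial (helper68)
-/

set_option autoImplicit false

namespace Cfsg.Agent.SB.Cl

open Subgroup Cfsg Cfsg.Agent.DS.Cl Cfsg.Agent.DS.Cl.Fwd Module

section ring

variable {A : Type} [Ring A] [StarRing A]

omit [StarRing A] in
theorem cen_mul_mul {a b : A} (hb : b ∈ Subring.center A) (x y : A) : a * x * (b * y) = a * b * (x * y) := by
  rw [mul_assoc, ← mul_assoc x, cen_comm hb x, mul_assoc, mul_assoc]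

/-- `1 + c M - (c M)*` is an isometry for all central `c` -/
structure Nil (F : FR A) (M : A) : Prop where
  mm : M * M = 0
  ms : M * star M = 0
  sm : star M * M = 0
  l1 : M * F.l * star M ∈ F.L
  l2 : star M * F.l * M ∈ F.L

namespace Nil

variable {F : FR A} {M : A}

theorem of_max (hF : F.L = Lmax A) (mm : M * M = 0) (ms : M * star M = 0) (sm : star M * M = 0) : Nil F M := by
  have hl : star F.l = 1 - F.l := by rw [← F.l_add]; abel
  refine ⟨mm, ms, sm, ?_, ?_⟩
  · rw [hF]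
    show star (M * F.l * star M) = -(M * F.l * star M)
    rw [star_mul, star_mul, star_star, hl, sub_mul, mul_sub, one_mul, ms, zero_sub, mul_assoc]
  · rw [hF]
    show star (star M * F.l * M) = -(star M * F.l * M)
    rw [star_mul, star_mul, star_star, hl, sub_mul, mul_sub, one_mul, sm, zero_sub, mul_assoc]

theorem ss (h : Nil F M) : star M * star M = 0 := by rw [← star_mul, h.mm, star_zero]

theorem smul (h : Nil F M) {c : A} (hc : c ∈ Subring.center A) : Nil F (c * M) := by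
  have hs : star (c * M) = star c * star M := by rw [star_mul, cen_comm (star_cen hc)]
  refine ⟨?_, ?_, ?_, ?_, ?_⟩
  · rw [cen_mul_mul hc, h.mm, mul_zero]
  · rw [hs, cen_mul_mul (star_cen hc), h.ms, mul_zero]
  · rw [hs, cen_mul_mul hc, h.sm, mul_zero]
  · have := F.conj_mem h.l1 c
    convert this using 1
    rw [star_mul]
    noncomm_ring
  · have := F.conj_mem h.l2 (star c)
    convert this using 1
    rw [hs, star_star, ← cen_comm hc M]
    noncomm_ring

theorem sq (h : Nil F M) : (M - star M) * (M - star M) = 0 := by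
  rw [sub_mul, mul_sub, mul_sub, h.mm, h.ms, h.sm, h.ss]
  simp

/-- the unipotent isometry -/
def unit (h : Nil F M) : Aˣ where
  val := 1 + (M - star M)
  inv := 1 - (M - star M)
  val_inv := by
    have := h.sq
    generalize M - star M = N at this
    rw [add_mul, mul_sub, mul_sub, this]; simp
  inv_val := by
    have := h.sq
    generalize M - star M = N at this
    rw [sub_mul, mul_add, mul_add, this]; simp

theorem unit_val (h : Nil F M) : (h.unit : A) = 1 + (M - star M) := rfl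

theorem unit_mem (h : Nil F M) : h.unit ∈ F.Iso := by
  have hs : star (h.unit : A) = 1 - (M - star M) := by
    rw [unit_val, star_add, star_one, star_sub, star_star]; abel
  have hl : star F.l = 1 - F.l := by rw [← F.l_add]; abel
  refine ⟨by rw [hs]; exact h.unit.val_inv, ?_⟩
  rw [hs, unit_val]
  have h1 := F.sub_star_mem ((M - star M) * F.l)
  have h2 := F.sub_star_mem M
  have h3 := F.sub_star_mem (M * F.l * M)
  have h4 := F.L.add_mem (F.L.add_mem (F.L.sub_mem (F.L.sub_mem h1 h2) h3) h.l1) h.l2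
  convert h4 using 1
  have e : star M * (star M - F.l * star M) = - (star M * (F.l * star M)) := by rw [mul_sub, h.ss, zero_sub]
  simp only [star_mul, star_sub, star_star, hl, sub_mul, one_mul]
  rw [e]
  noncomm_ring

end Nil

theorem SS_eq_zero (h : SS A) {c : A} (hc : c ∈ Subring.center A) (hn : IsNilpotent c) : c = 0 := by
  have h1 := h.nil_eq_bot (two_span_cen hc) fun x hx => by
    obtain ⟨b, rfl⟩ := Ideal.mem_span_singleton'.1 hx
    exact (show Commute b c from cen_comm hc b).isNilpotent_mul_left hn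
  exact Ideal.span_singleton_eq_bot.1 h1

theorem Nil.fix {F : FR A} (hss : SS A) (hsp : F.Span) (hs : IsSimpleGroup F.S) (hn : ¬ IsMulCommutative F.S)
    {γ : RingAut A} (hγ : γ ∈ F.Aut) (hc : ∀ s ∈ F.S, γ * s = s * γ) {M : A} (h : Nil F M) :
    γ (M - star M) = M - star M := by
  obtain ⟨z, hz, e⟩ := fix_of_cent hsp hs hn hγ hc h.unit_mem
  have h1 := congrArg Units.val e
  rw [um_val, Units.val_mul, h.unit_val, map_add, map_one] at h1
  have h2 := h.sq
  generalize M - star M = N at h1 h2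
  have h3 : γ N * γ N = 0 := by rw [← map_mul, h2, map_zero]
  have hz' : (z : A) - 1 ∈ Subring.center A := sub_mem hz (one_mem _)
  have h4 : γ N = ((z : A) - 1) + z * N := by
    rw [← cen_comm hz N, ← add_left_cancel_iff (a := (1 : A)), h1]
    noncomm_ring
  have h5 : IsNilpotent ((z : A) - 1) := by
    have h6 : (z : A) - 1 = γ N - z * N := by rw [h4]; abel
    have h7 : Commute (γ N) (z * N) := by
      rw [h4]
      exact Commute.add_left (cen_comm hz' _).symm (Commute.refl _)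
    rw [h6]
    refine h7.isNilpotent_sub ⟨2, by rw [pow_two, h3]⟩ ⟨2, ?_⟩
    rw [pow_two, cen_mul_mul hz, h2, mul_zero]
  rw [h4, SS_eq_zero hss hz' h5, zero_add, sub_eq_zero.1 (SS_eq_zero hss hz' h5), one_mul]

/-- **criterion for `Ctx.cent`** -/
theorem cent_of_nil {F : FR A} (hss : SS A) (hsp : F.Span) (hs : IsSimpleGroup F.S) (hn : ¬ IsMulCommutative F.S)
    {M M' : A} (hM : Nil F M) (hM' : Nil F M') (h1 : M' * M = 0) (h2 : M' * star M = 0) (h3 : star M' * M = 0)
    (h4 : ∀ z ∈ Subring.center A, z * z * (M * M') = 0 → star z * star z * (M * M') = 0 → z = 0) :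
    ∀ γ ∈ F.Aut, (∀ s ∈ F.S, γ * s = s * γ) → γ = 1 := by
  intro γ hγ hc
  refine eq_one_of_cent hsp hs hn ?_ hc
  have hst : ∀ a, γ (star a) = star (γ a) := hγ.1
  have key : ∀ c ∈ Subring.center A, (γ c - c) * (γ c - c) * (M * M') = 0 := by
    intro c hc'
    have hsc := star_cen hc'
    have hgc := star_cen (map_cen γ hc')
    have k1 : ∀ X : A, Nil F X → γ ((c - star c) * X) = (c - star (γ c)) * X + (star (γ c) - star c) * star X := by
      intro X hX
      have a1 := hX.fix hss hsp hs hn hγ hc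
      have a2 := (hX.smul hc').fix hss hsp hs hn hγ hc
      rw [star_mul, cen_comm hsc] at a2
      have a3 : (c - star c) * X = (c * X - star c * star X) - star c * (X - star X) := by noncomm_ring
      rw [a3, map_sub, a2, map_mul, a1, hst]
      noncomm_ring
    have hd : c - star c ∈ Subring.center A := sub_mem hc' hsc
    have ha : c - star (γ c) ∈ Subring.center A := sub_mem hc' hgc
    have hb : star (γ c) - star c ∈ Subring.center A := sub_mem hgc hsc
    have k2 : γ ((c - star c) * M') * γ ((c - star c) * M) = 0 := by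
      rw [← map_mul, cen_mul_mul hd, h1, mul_zero, map_zero]
    rw [k1 M hM, k1 M' hM', add_mul, mul_add, mul_add, cen_mul_mul ha, cen_mul_mul ha, cen_mul_mul hb, cen_mul_mul hb,
      h1, h2, h3, mul_zero, mul_zero, mul_zero, zero_add, zero_add, zero_add, ← star_mul, ← star_sub, ← star_mul,
      ← star_mul, star_eq_zero] at k2
    rw [← cen_comm (mul_mem (sub_mem (map_cen γ hc') hc') (sub_mem (map_cen γ hc') hc'))]
    exact k2
  intro c hc'
  refine sub_eq_zero.1 (h4 _ (sub_mem (map_cen γ hc') hc') (key c hc') ?_)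
  have := key _ (star_cen hc')
  rwa [hst, ← star_sub] at this

end ring

/-- linear groups -/
theorem cent_LR {K : Type} [Field K] {n : ℕ} (hn3 : 3 ≤ n) (F : FR (LR (Fin n) K)) (hsp : F.Span)
    (hs : IsSimpleGroup F.S) (hn : ¬ IsMulCommutative F.S) : ∀ γ ∈ F.Aut, (∀ s ∈ F.S, γ * s = s * γ) → γ = 1 := by
  have : Nonempty (Fin n) := ⟨⟨0, by omega⟩⟩
  let i : Fin n := ⟨0, by omega⟩
  let j : Fin n := ⟨1, by omega⟩
  let k : Fin n := ⟨2, by omega⟩
  have hF : F.L = Lmax _ := by
    refine F.L_eq (c := LR.mk 1 0) (Subring.mem_center_iff.2 fun g => ?_) LR.half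
    obtain ⟨a, b, rfl⟩ := LR.exists_mk g
    rw [LR.mk_mul, LR.mk_mul, mul_one, one_mul, mul_zero, zero_mul]
  have hnil : ∀ a b : Fin n, b ≠ a → Nil F (LR.mk (Matrix.single a b 1) 0) := fun a b hab =>
    Nil.of_max hF (by rw [LR.mk_mul, Matrix.single_mul_single_of_ne _ _ _ _ hab, mul_zero, LR.zero_eq])
      (by rw [LR.star_mk, LR.mk_mul, Matrix.transpose_zero, mul_zero, zero_mul, LR.zero_eq])
      (by rw [LR.star_mk, LR.mk_mul, Matrix.transpose_zero, mul_zero, zero_mul, LR.zero_eq])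
  have hscal : ∀ z ∈ Subring.center (LR (Fin n) K), z * z * LR.mk (Matrix.single i k 1) 0 = 0 → z.1 = 0 := by
    intro z hz h0
    have h1 : z.1 ∈ Set.center (Matrix (Fin n) (Fin n) K) :=
      Semigroup.mem_center_iff.2 fun g => congrArg Prod.fst (Subring.mem_center_iff.1 hz (LR.mk g 0))
    rw [Matrix.center_eq_range] at h1
    obtain ⟨c, hc⟩ := h1
    have h2 : z.1 * z.1 * Matrix.single i k 1 = 0 := congrArg Prod.fst h0
    rw [← hc, ← map_mul] at h2
    have h3 := congrFun (congrFun h2 i) k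
    simp only [Matrix.scalar_apply, Matrix.diagonal_mul, Matrix.single_apply_same, mul_one, Matrix.zero_apply,
      mul_self_eq_zero] at h3
    rw [← hc, h3, map_zero]
  refine cent_of_nil LR.ss hsp hs hn (hnil i j (by simp [i, j])) (hnil j k (by simp [j, k])) ?_ ?_ ?_ ?_
  · rw [LR.mk_mul, Matrix.single_mul_single_of_ne _ _ _ _ (by simp [i, k]), mul_zero, LR.zero_eq]
  · rw [LR.star_mk, LR.mk_mul, Matrix.transpose_zero, mul_zero, zero_mul, LR.zero_eq]
  · rw [LR.star_mk, LR.mk_mul, Matrix.transpose_zero, mul_zero, zero_mul, LR.zero_eq]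
  · intro z hz h1 h2
    rw [LR.mk_mul, Matrix.single_mul_single_same, mul_one, mul_zero] at h1 h2
    have a1 := hscal z hz h1
    have a2 : z.2.transpose = 0 := hscal _ (star_cen hz) h2
    exact Prod.ext a1 (Matrix.transpose_eq_zero.1 a2)

section hf

variable {K V : Type} [Field K] [Finite K] [AddCommGroup V] [Module K V] [Finite V] (h : HF K V)

theorem ap_star_ro (u v y : V) : h.ap (star (h.eb (h.ro u v))) y = h.τ (h.b u y) • v :=
  h.ext_right fun x => by rw [h.b_star, h.ap_eb, h.ro_apply, h.smul_left, h.smul_right, h.τ_τ, mul_comm]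

theorem nil_ro (F : FR h.EB) {u v : V} (huu : h.b u u = 0) (hvv : h.b v v = 0) (huv : h.b u v = 0)
    (hl : F.L = Lmax _ ∨ (h.b u (h.ap F.l u) = 0 ∧ h.b v (h.ap F.l v) = 0)) : Nil F (h.eb (h.ro u v)) := by
  have mm : h.eb (h.ro u v) * h.eb (h.ro u v) = 0 := h.ap_ext fun x => by
    rw [h.ap_mul, h.ap_eb, h.ro_apply, h.ro_apply, h.smul_left, huv, mul_zero, zero_smul]; rfl
  have ms : h.eb (h.ro u v) * star (h.eb (h.ro u v)) = 0 := h.ap_ext fun x => by
    rw [h.ap_mul, ap_star_ro, h.ap_eb, h.ro_apply, h.smul_left, hvv, mul_zero, zero_smul]; rfl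
  have sm : star (h.eb (h.ro u v)) * h.eb (h.ro u v) = 0 := h.ap_ext fun x => by
    rw [h.ap_mul, ap_star_ro, h.ap_eb, h.ro_apply, h.smul_right, huu, mul_zero, map_zero, zero_smul]; rfl
  rcases hl with hl | ⟨hu, hv⟩
  · exact Nil.of_max hl mm ms sm
  refine ⟨mm, ms, sm, ?_, ?_⟩
  · have h1 : h.b (h.ap F.l v) v = 0 := by rw [h.swap, hv, map_zero, mul_zero]
    have : h.eb (h.ro u v) * F.l * star (h.eb (h.ro u v)) = 0 := h.ap_ext fun x => by
      rw [h.ap_mul, h.ap_mul, ap_star_ro, h.ap_eb, h.ro_apply, map_smul, h.smul_left, h1, mul_zero, zero_smul]; rfl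
    rw [this]; exact F.L.zero_mem
  · have : star (h.eb (h.ro u v)) * F.l * h.eb (h.ro u v) = 0 := h.ap_ext fun x => by
      rw [h.ap_mul, h.ap_mul, ap_star_ro, h.ap_eb, h.ro_apply, map_smul, h.smul_right, hu, mul_zero, map_zero,
        zero_smul]; rfl
    rw [this]; exact F.L.zero_mem

/-- unitary, symplectic, orthogonal groups: `e₁, e₂, f₂` isotropic (singular), `e₁ ≠ 0` orthogonal to `e₂, f₂`, and
`b f₂ e₂ ≠ 0` -/
theorem cent_HF (F : FR h.EB) (hsp : F.Span) (hs : IsSimpleGroup F.S) (hn : ¬ IsMulCommutative F.S) {e₁ e₂ f₂ : V}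
    (h0 : e₁ ≠ 0) (h11 : h.b e₁ e₁ = 0) (h22 : h.b e₂ e₂ = 0) (hff : h.b f₂ f₂ = 0) (h12 : h.b e₁ e₂ = 0)
    (h1f : h.b e₁ f₂ = 0) (hf2 : h.b f₂ e₂ ≠ 0)
    (hl : F.L = Lmax _ ∨ (h.b e₁ (h.ap F.l e₁) = 0 ∧ h.b e₂ (h.ap F.l e₂) = 0 ∧ h.b f₂ (h.ap F.l f₂) = 0)) :
    ∀ γ ∈ F.Aut, (∀ s ∈ F.S, γ * s = s * γ) → γ = 1 := by
  have : Nontrivial V := ⟨e₁, 0, h0⟩
  have hf1 : h.b f₂ e₁ = 0 := by rw [h.swap, h1f, map_zero, mul_zero]
  have h21 : h.b e₂ e₁ = 0 := by rw [h.swap, h12, map_zero, mul_zero]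
  refine cent_of_nil h.ss hsp hs hn (nil_ro h F h11 h22 h12 (hl.imp id fun a => ⟨a.1, a.2.1⟩))
    (nil_ro h F hff h11 hf1 (hl.imp id fun a => ⟨a.2.2, a.1⟩)) ?_ ?_ ?_ ?_
  · exact h.ap_ext fun x => by
      rw [h.ap_mul, h.ap_eb, h.ap_eb, h.ro_apply, h.ro_apply, h.smul_left, h11, mul_zero, zero_smul]; rfl
  · exact h.ap_ext fun x => by
      rw [h.ap_mul, ap_star_ro, h.ap_eb, h.ro_apply, h.smul_left, h21, mul_zero, zero_smul]; rfl
  · exact h.ap_ext fun x => by
      rw [h.ap_mul, ap_star_ro, h.ap_eb, h.ro_apply, h.smul_right, hf1, mul_zero, map_zero, zero_smul]; rfl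
  · intro z hz h1 _
    obtain ⟨x, hx⟩ := h.exists_ne h0
    -- `z` is a scalar
    have h2 : ∀ y, h.b x e₁ • h.ap z y = h.b (h.ap z x) e₁ • y := fun y => by
      have h3 := congrArg (fun a => h.ap a x) (Subring.mem_center_iff.1 hz (h.eb (h.ro y e₁)))
      simp only [h.ap_mul, h.ap_eb, h.ro_apply, map_smul] at h3
      exact h3.symm
    have h4 : ∀ y, h.ap z y = ((h.b x e₁)⁻¹ * h.b (h.ap z x) e₁) • y := fun y => by
      rw [mul_smul, ← h2, smul_smul, inv_mul_cancel₀ hx, one_smul]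
    generalize (h.b x e₁)⁻¹ * h.b (h.ap z x) e₁ = c at h4
    have h5 : h.ap (z * z * (h.eb (h.ro e₁ e₂) * h.eb (h.ro f₂ e₁))) x = 0 := by rw [h1]; rfl
    rw [h.ap_mul, h.ap_mul, h.ap_mul, h4, h4, h.ap_eb, h.ap_eb, h.ro_apply, h.ro_apply, h.smul_left, smul_smul,
      smul_smul, smul_eq_zero_iff_left h0, mul_eq_zero_iff_right (mul_ne_zero hx hf2), mul_self_eq_zero] at h5
    exact h.ap_ext fun y => by rw [h4, h5, zero_smul]; rfl

end hf

end Cfsg.Agent.SB.Cl
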