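import Cfsg.Agent.SB.Cl.Defs
import Cfsg.Agent.SB.Mono
import Cfsg.Agent.DS.Cl.Basic

/-!
# S5765, classical groups: basic consequences of `Ctx` (helper68)
-/

set_option autoImplicit false

namespace Cfsg.Agent.SB.Cl

open Subgroup Cfsg Cfsg.Agent.DS.Cl Cfsg.Agent.DS.Cl.Fwd Module
open scoped commutatorElement

variable {A : Type} [Ring A] [StarRing A]

instance finiteRingAut [Finite A] : Finite (RingAut A) :=
  Finite.of_injective (fun γ : RingAut A => (γ : A → A)) DFunLike.coe_injective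

/-- the stabiliser in `F.Aut` of a set -/
def stab [Finite A] (F : FR A) (X : Set A) : Subgroup (RingAut A) where
  carrier := {γ | γ ∈ F.Aut ∧ ∀ x ∈ X, γ x ∈ X}
  one_mem' := ⟨one_mem _, fun _ hx => hx⟩
  mul_mem' := fun ha hb => ⟨mul_mem ha.1 hb.1, fun x hx => ha.2 _ (hb.2 x hx)⟩
  inv_mem' := by
    intro γ hγ
    refine ⟨inv_mem hγ.1, fun x hx => ?_⟩
    have h1 : Function.Surjective (fun y : X => (⟨γ y, hγ.2 y y.2⟩ : X)) :=
      Finite.surjective_of_injective fun y z h => Subtype.ext (γ.injective (congrArg Subtype.val h))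
    obtain ⟨y, hy⟩ := h1 ⟨x, hx⟩
    have h2 : γ y = x := congrArg Subtype.val hy
    rw [← h2, ra_inv_apply]
    exact y.2

theorem mem_stab [Finite A] {F : FR A} {X : Set A} {γ : RingAut A} :
    γ ∈ stab F X ↔ γ ∈ F.Aut ∧ ∀ x ∈ X, γ x ∈ X := Iff.rfl

theorem inv_stab [Finite A] (F : FR A) (X : Set A) : Inv (stab F X) X := fun _ h => h.2

/-- a conjugate of `s ∈ PI` under `PI` lies in the coset `T s` -/
theorem conj_mul_inv_mem (F : FR A) {g s : RingAut A} (hg : g ∈ F.PI) (hs : s ∈ F.PI) : g * s * g⁻¹ * s⁻¹ ∈ F.S := by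
  rw [F.S_eq]
  exact commutator_mem_commutator hg hs

/-- the same for isometries -/
theorem cj_TS (F : FR A) {S : Subgroup (RingAut A)} {g u : Aˣ} (hg : g ∈ F.Iso) (hu : u ∈ F.Iso) (hS : cj A u ∈ S) :
    ∃ s ∈ S, cj A (g * u * g⁻¹) * s⁻¹ ∈ F.S := by
  refine ⟨_, hS, ?_⟩
  rw [map_mul, map_mul, map_inv]
  exact conj_mul_inv_mem F (mem_map_of_mem _ hg) (mem_map_of_mem _ hu)

namespace Ctx

variable [Finite A] {F : FR A} {S : Subgroup (RingAut A)} (h : Ctx F S)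
include h

omit [Finite A] in
theorem as : AS (F.S.subgroupOf F.Aut) where
  normal := ⟨fun s hs γ => mem_subgroupOf.2 (FR.conj_mem_S γ.2 (mem_subgroupOf.1 hs))⟩
  simple := by
    have := h.simple
    exact (subgroupOfEquivOfLe F.S_le_Aut).isSimpleGroup
  nonab := fun hc => h.noncomm ⟨⟨fun a b => (subgroupOfEquivOfLe F.S_le_Aut).symm.injective (by
    rw [map_mul, map_mul]; exact hc.is_comm.comm _ _)⟩⟩
  cent := by
    rw [eq_bot_iff]
    intro γ hγ
    rw [mem_bot]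
    refine Subtype.ext (h.cent γ γ.2 fun s hs => ?_)
    exact (congrArg Subtype.val (mem_centralizer_iff.1 hγ ⟨s, F.S_le_Aut hs⟩ (mem_subgroupOf.2 hs))).symm

omit [Finite A] h in
theorem map_T : (F.S.subgroupOf F.Aut).map F.Aut.subtype = F.S := map_subgroupOf_eq_of_le F.S_le_Aut

omit [Finite A] in
theorem map_S : (S.subgroupOf F.Aut).map F.Aut.subtype = S := map_subgroupOf_eq_of_le h.le

omit [Finite A] in
theorem card_T : 360 < Nat.card (F.S.subgroupOf F.Aut) := by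
  rw [Nat.card_congr (subgroupOfEquivOfLe F.S_le_Aut).toEquiv]
  exact h.big

omit [Finite A] in
theorem solv' : Group.IsSolvable (S.subgroupOf F.Aut) := by
  have := h.solv
  exact Group.isSolvable_of_isSolvable_injective (f := (subgroupOfEquivOfLe h.le).toMonoidHom)
    (subgroupOfEquivOfLe h.le).injective

omit [Finite A] in
theorem max' : MaxInv (F.S.subgroupOf F.Aut) (S.subgroupOf F.Aut) := by
  apply MaxInv.of_map F.Aut.subtype F.Aut.subtype_injective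
  rw [map_T, h.map_S]
  exact h.max

omit [Finite A] in
/-- work inside the group `F.Aut`, where `T` is normal -/
theorem good_of_sub (hg : Good (F.S.subgroupOf F.Aut) (S.subgroupOf F.Aut)) : Good F.S S := by
  have := hg.map F.Aut.subtype F.Aut.subtype_injective
  rwa [map_T, h.map_S] at this

omit [Finite A] in
theorem good_sub (hg : Good F.S S) : Good (F.S.subgroupOf F.Aut) (S.subgroupOf F.Aut) := by
  apply Good.of_map F.Aut.subtype F.Aut.subtype_injective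
  rwa [map_T, h.map_S]

omit [Finite A] in
theorem perfect : F.S ≤ ⁅F.S, F.S⁆ := perfect_of_simple h.simple h.noncomm

omit [Finite A] in
theorem not_solvable : ¬ Group.IsSolvable F.S := Red.not_solvable h.simple h.noncomm

omit [Finite A] in
theorem not_le : ¬ F.S ≤ S := fun hle => h.not_solvable (by
  have := h.solv
  exact Group.isSolvable_of_isSolvable_injective (f := inclusion hle) (inclusion_injective hle))

omit [Finite A] in
theorem le_SAut : S ≤ SAut A := h.le.trans F.Aut_le_SAut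

omit [Finite A] in
theorem conj_inf {γ s : RingAut A} (hγ : γ ∈ S) (hs : s ∈ S ⊓ F.S) : γ * s * γ⁻¹ ∈ S ⊓ F.S :=
  mem_inf.2 ⟨mul_mem (mul_mem hγ (mem_inf.1 hs).1) (inv_mem hγ), FR.conj_mem_S (h.le hγ) (mem_inf.1 hs).2⟩

omit [Finite A] in
/-- **Overgroups**: `Y ∩ T ≤ S` -/
theorem inf_le {Y : Subgroup (RingAut A)} (hSY : S ≤ Y) (hY : ¬ F.S ≤ Y) : Y ⊓ F.S ≤ S := by
  rcases h.max (Y ⊓ F.S) (inf_le_inf_right _ hSY) inf_le_right (fun s hs y hy => mem_inf.2
    ⟨mul_mem (mul_mem (hSY hs) (mem_inf.1 hy).1) (inv_mem (hSY hs)),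
      FR.conj_mem_S (h.le hs) (mem_inf.1 hy).2⟩) with h1 | h1
  · exact absurd (inf_eq_right.1 h1) hY
  · exact h1

omit [Finite A] in
theorem inf_eq {Y : Subgroup (RingAut A)} (hSY : S ≤ Y) (hY : ¬ F.S ≤ Y) : Y ⊓ F.S = S ⊓ F.S :=
  le_antisymm (le_inf (h.inf_le hSY hY) inf_le_right) (inf_le_inf_right _ hSY)

/-- a subgroup of `F.Aut` whose intersection with `T` lies in `S` is solvable -/
theorem solv_of_inf_le {Y : Subgroup (RingAut A)} (hY : Y ≤ F.Aut) (h1 : Y ⊓ F.S ≤ S) : Group.IsSolvable Y := by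
  obtain ⟨k, hk⟩ := h.solv
  have h2 : dS Y 3 ≤ S := (le_inf (dS_le Y 3) ((dS_mono hY 3).trans (FR.dS_three_le h.ss))).trans h1
  have h3 : dS S k = ⊥ := by rw [← DS.Cl.map_derivedSeries_eq, hk, Subgroup.map_bot]
  have h4 : dS Y (3 + k) = ⊥ := by
    rw [← dS_add, eq_bot_iff, ← h3]
    exact dS_mono h2 k
  refine ⟨⟨3 + k, ?_⟩⟩
  rwa [← DS.Cl.map_derivedSeries_eq, map_eq_bot_iff_of_injective _ Y.subtype_injective] at h4

/-- **every overgroup of `S` in `F.Aut` not containing `T` satisfies `Ctx`** -/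
theorem ofLe {Y : Subgroup (RingAut A)} (hSY : S ≤ Y) (hY : Y ≤ F.Aut) (hT : ¬ F.S ≤ Y) : Ctx F Y where
  ss := h.ss
  span := h.span
  simple := h.simple
  noncomm := h.noncomm
  big := h.big
  cent := h.cent
  le := hY
  solv := h.solv_of_inf_le hY (h.inf_le hSY hT)
  max := h.max.of_le hSY
  npar := fun p hp hp0 X h1 h2 h3 => h.npar p hp hp0 X (by rwa [← h.inf_eq hSY hT]) h2 fun s hs => h3 s (hSY hs)

theorem seven_le : 7 ≤ S.relIndex F.S := seven_le_relIndex h.simple h.noncomm h.big h.solv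

theorem good_of_four (h4 : Four F.S S) : Good F.S S := Or.inr (seven_of_four h4 h.seven_le)

theorem seven_of_good (hg : Good F.S S) : Seven F.S S := by
  have h1 := ((h.good_sub hg).seven h.as.normal h.solv' (h.as.seven_le h.card_T h.solv')).map
    F.Aut.subtype F.Aut.subtype_injective
  rwa [map_T, h.map_S] at h1

/-- **`Good` is monotone** -/
theorem good_of_le {S' : Subgroup (RingAut A)} (hle : S' ≤ S) (hg : Good F.S S) : Good F.S S' :=
  Or.inr ((h.seven_of_good hg).mono hle)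

theorem le_stab {X : Set A} (hX : Inv S X) : S ≤ stab F X := fun γ hγ => ⟨h.le hγ, hX γ hγ⟩

/-- the full stabiliser of an invariant set -/
theorem stab {X : Set A} (hX : Inv S X) (hT : ¬ Inv F.S X) : Ctx F (stab F X) :=
  h.ofLe (h.le_stab hX) (fun _ hγ => hγ.1) fun hle => hT fun γ hγ => (hle hγ).2

/-- **without loss of generality `S` is the full stabiliser** -/
theorem good_of_stab {X : Set A} (hX : Inv S X) (hT : ¬ Inv F.S X)
    (hg : Ctx F (Cl.stab F X) → Good F.S (Cl.stab F X)) : Good F.S S :=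
  (h.stab hX hT).good_of_le (h.le_stab hX) (hg (h.stab hX hT))

/-- elements of `T` preserving an `S`-invariant set lie in `S` -/
theorem mem_of_inv {X : Set A} (hX : Inv S X) (hT : ¬ Inv F.S X) {t : RingAut A} (ht : t ∈ F.S)
    (htX : ∀ x ∈ X, t x ∈ X) : t ∈ S :=
  h.inf_le (h.le_stab hX) (fun hle => hT fun _ hγ => (hle hγ).2) (mem_inf.2 ⟨⟨F.S_le_Aut ht, htX⟩, ht⟩)

omit [Finite A] in
/-- a `T`-invariant set fixed pointwise by a non-trivial element of `T` is central -/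
theorem cen_of_inv {X : Set A} (hX : Inv F.S X)
    (hs : ∃ t ∈ F.S, t ≠ 1 ∧ ∀ x ∈ X, t x = x) : ∀ x ∈ X, x ∈ Subring.center A := by
  let K : Subgroup F.S :=
    { carrier := {t | ∀ x ∈ X, (t : RingAut A) x = x}
      one_mem' := fun _ _ => rfl
      mul_mem' := fun {a b} ha hb x hx => by
        show (a : RingAut A) ((b : RingAut A) x) = x
        rw [hb x hx, ha x hx]
      inv_mem' := fun {a} ha x hx => by
        show (a : RingAut A)⁻¹ x = x
        conv_lhs => rw [← ha x hx]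
        exact ra_inv_apply _ _ }
  have hn : K.Normal := ⟨fun t ht g x hx => by
    show (g : RingAut A) ((t : RingAut A) ((g : RingAut A)⁻¹ x)) = x
    rw [ht _ (hX _ (inv_mem g.2) x hx), ra_apply_inv]⟩
  have := h.simple
  obtain ⟨t, ht, ht1, htX⟩ := hs
  rcases hn.eq_bot_or_eq_top with h1 | h1
  · have h2 : (⟨t, ht⟩ : F.S) ∈ K := htX
    rw [h1, mem_bot] at h2
    exact absurd (congrArg Subtype.val h2) ht1
  · intro x hx
    refine FR.cen_of_S h.span fun s hs => ?_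
    have h2 : (⟨s, hs⟩ : F.S) ∈ K := by rw [h1]; exact mem_top _
    exact h2 x hx

/-- normalisers of invariant subgroups -/
theorem mem_of_normalizes {X : Subgroup (RingAut A)} (hXA : X ≤ F.Aut) (hX0 : X ≠ ⊥) (hXT : ¬ F.S ≤ X)
    (hX : ∀ s ∈ S, ∀ x ∈ X, s * x * s⁻¹ ∈ X) {t : RingAut A} (ht : t ∈ F.S)
    (htX : ∀ x ∈ X, t * x * t⁻¹ ∈ X) : t ∈ S := by
  refine mem_subgroupOf.1 (h.max'.mem_of_normalizes h.as (X := X.subgroupOf F.Aut) ?_ ?_ ?_
    (t := ⟨t, F.S_le_Aut ht⟩) (mem_subgroupOf.2 ht) ?_)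
  · intro hb
    exact hX0 (by rw [← map_subgroupOf_eq_of_le hXA, hb, Subgroup.map_bot])
  · intro hle
    exact hXT fun s hs => mem_subgroupOf.1 (hle (x := ⟨s, F.S_le_Aut hs⟩) (mem_subgroupOf.2 hs))
  · exact fun s hs x hx => mem_subgroupOf.2 (hX s (mem_subgroupOf.1 hs) x (mem_subgroupOf.1 hx))
  · exact fun x hx => mem_subgroupOf.2 (htX x (mem_subgroupOf.1 hx))

theorem inf_ne_bot : S ⊓ F.S ≠ ⊥ := by
  intro hb
  apply h.max'.inf_ne_bot h.as h.solv'
  apply map_injective F.Aut.subtype_injective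
  rw [map_inf _ _ _ F.Aut.subtype_injective, map_T, h.map_S, hb, Subgroup.map_bot]

theorem inf_not_comm : ¬ ∀ a ∈ S ⊓ F.S, ∀ b ∈ S ⊓ F.S, a * b = b * a := fun hab =>
  Red.inf_not_comm h.as.normal h.as.simple h.as.nonab h.as.cent h.solv' h.max' fun a ha b hb =>
    Subtype.ext (hab a ⟨ha.1, ha.2⟩ b ⟨hb.1, hb.2⟩)

/-- a minimal invariant subgroup of `S ∩ T` -/
theorem exists_min : ∃ X : Subgroup (RingAut A), X ≤ S ⊓ F.S ∧ X ≠ ⊥ ∧ (∀ s ∈ S, ∀ x ∈ X, s * x * s⁻¹ ∈ X) ∧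
      (∀ Z : Subgroup (RingAut A), Z ≤ X → (∀ s ∈ S, ∀ x ∈ Z, s * x * s⁻¹ ∈ Z) → Z = ⊥ ∨ Z = X) ∧
      (∀ x ∈ X, ∀ y ∈ X, x * y = y * x) ∧ (∃ r : ℕ, r.Prime ∧ (r : A) ≠ 0 ∧ ∀ x ∈ X, x ^ r = 1) ∧
      (∀ x (hx : x ∈ S), x ∈ X → (⟨x, hx⟩ : S) ∈ fittingSubgroup S) ∧
      ∀ v : S, v ∈ fittingSubgroup S → ∀ x ∈ X, (v : RingAut A) * x = x * v := by
  obtain ⟨X, h1, h2, h3, h4, h5, ⟨r, hr, h6⟩, h7, h8⟩ :=
    SB.exists_min h.solv h.inf_ne_bot inf_le_left fun s hs _ hy => h.conj_inf hs hy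
  refine ⟨X, h1, h2, h3, h4, h5, ⟨r, hr, fun h0 => h2 (h.npar r hr h0 X h1 ?_ h3), h6⟩, h7, h8⟩
  exact fun x => ⟨1, Subtype.ext (by rw [pow_one]; exact h6 x x.2)⟩

end Ctx

/-- a criterion for `Ctx.cent`: an automorphism centralising `T` fixes the isometries of order prime to the central
units, e.g. the unipotent ones -/
theorem fix_of_cent {F : FR A} (hsp : F.Span) (hs : IsSimpleGroup F.S) (hn : ¬ IsMulCommutative F.S)
    {γ : RingAut A} (hγ : γ ∈ F.Aut) (hc : ∀ s ∈ F.S, γ * s = s * γ) {u : Aˣ} (hu : u ∈ F.Iso) :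
    ∃ z : Aˣ, (z : A) ∈ Subring.center A ∧ um γ u = u * z := by
  have hp : F.S ≤ ⁅F.S, F.S⁆ := perfect_of_simple hs hn
  have key : ∀ δ ∈ Lin A, (∀ s ∈ F.S, δ * s = s * δ) → δ = 1 := by
    intro δ hl hδ
    refine eq_one_of_fix hsp hl ?_
    rintro _ ⟨u, hu, rfl⟩
    exact fix_of_comm (W := ⁅F.Iso, F.Iso⁆) hp hl (fun w hw => hδ _ ⟨w, hw, rfl⟩) u hu
  have h1 : cj A u ∈ F.PI := mem_map_of_mem _ hu
  have h2 := key (γ * cj A u * γ⁻¹ * (cj A u)⁻¹) (F.PI_le_Lin (mul_mem (FR.conj_mem_PI hγ h1) (inv_mem h1))) (by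
    intro s hs
    have h3 : ∀ s ∈ F.S, γ⁻¹ * s = s * γ⁻¹ := fun s hs => by
      rw [inv_mul_eq_iff_eq_mul, ← mul_assoc, hc s hs, mul_inv_cancel_right]
    have h4 := h3 _ (FR.conj_mem_S (inv_mem (FR.cj_mem_Aut hu)) hs)
    have h5 := hc s hs
    calc γ * cj A u * γ⁻¹ * (cj A u)⁻¹ * s
        = γ * cj A u * (γ⁻¹ * ((cj A u)⁻¹ * s * (cj A u)⁻¹⁻¹)) * (cj A u)⁻¹ := by group
      _ = γ * s * (cj A u * γ⁻¹ * (cj A u)⁻¹) := by rw [h4]; group
      _ = s * (γ * cj A u * γ⁻¹ * (cj A u)⁻¹) := by rw [h5]; group)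
  rw [mul_inv_eq_one, conj_cj] at h2
  exact cj_eq_iff.1 h2

/-- an automorphism centralising `T` and the centre is trivial -/
theorem eq_one_of_cent {F : FR A} (hsp : F.Span) (hs : IsSimpleGroup F.S) (hn : ¬ IsMulCommutative F.S)
    {δ : RingAut A} (hl : δ ∈ Lin A) (hδ : ∀ s ∈ F.S, δ * s = s * δ) : δ = 1 := by
  refine eq_one_of_fix hsp hl ?_
  rintro _ ⟨u, hu, rfl⟩
  exact fix_of_comm (W := ⁅F.Iso, F.Iso⁆) (perfect_of_simple hs hn) hl (fun w hw => hδ _ ⟨w, hw, rfl⟩) u hu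

end Cfsg.Agent.SB.Cl
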